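import Cfsg.Agent.H618.PslG.Chg

/-!
# S4324, PSL, graph automorphisms: block diagonal matrices (helper618)

* `EE` the projection on the first block, `MT` its centraliser in `SL (κ ⊕ κ') F`, `MM` the image in `PSL`;
* `graph_mem_MT` : `MT` is invariant under a graph automorphism with a block diagonal or block antidiagonal matrix;
* `lift_eq_one` : block diagonal matrix: trivial action on `PSL κ F`;
* `false_of_swap` : block antidiagonal matrix: contradiction.
-/

set_option autoImplicit false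

namespace Cfsg.Agent.H618.PslG

open Matrix
open Cfsg.Agent.ClassicalGeometry.AutPSL.Root
open Cfsg.Agent.ClassicalGeometry.AutPSL.Auto
open Cfsg.Agent.ClassicalGeometry.AutPSL.Main
open Cfsg.Agent.H216.Pi (PC coreIn coreIn_coprime coreIn_conj_mem coreIn_le)

variable {κ κ' F : Type*} [Fintype κ] [DecidableEq κ] [Fintype κ'] [DecidableEq κ'] [Field F]

/-- the projection on the first block -/
def EE (κ κ' F : Type*) [DecidableEq κ] [Field F] : Matrix (κ ⊕ κ') (κ ⊕ κ') F := fromBlocks 1 0 0 0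

theorem EE_mul_EE : EE κ κ' F * EE κ κ' F = EE κ κ' F := by
  unfold EE
  rw [fromBlocks_multiply]
  simp

omit [Fintype κ] [Fintype κ'] [DecidableEq κ'] in
theorem EE_map (σ : F ≃+* F) : (EE κ κ' F).map σ = EE κ κ' F := by
  unfold EE
  rw [fromBlocks_map]
  congr 1
  · exact Matrix.map_one _ (map_zero _) (map_one _)
  all_goals exact Matrix.map_zero _ (map_zero _)

omit [Fintype κ] [Fintype κ'] [DecidableEq κ'] in
theorem EE_transpose : (EE κ κ' F)ᵀ = EE κ κ' F := by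
  unfold EE
  rw [fromBlocks_transpose]
  simp

/-- the matrices commuting with the projection -/
def MT (κ κ' F : Type*) [Fintype κ] [DecidableEq κ] [Fintype κ'] [DecidableEq κ'] [Field F] :
    Subgroup (Matrix.SpecialLinearGroup (κ ⊕ κ') F) where
  carrier := {g | g.1 * EE κ κ' F = EE κ κ' F * g.1}
  one_mem' := by
    change (1 : Matrix _ _ F) * EE κ κ' F = EE κ κ' F * 1
    rw [Matrix.one_mul, Matrix.mul_one]
  mul_mem' := by
    intro a b ha hb
    change (a.1 * b.1) * EE κ κ' F = EE κ κ' F * (a.1 * b.1)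
    rw [Matrix.mul_assoc, show b.1 * EE κ κ' F = EE κ κ' F * b.1 from hb, ← Matrix.mul_assoc,
      show a.1 * EE κ κ' F = EE κ κ' F * a.1 from ha, Matrix.mul_assoc]
  inv_mem' := by
    intro a ha
    have h1 : (a⁻¹).1 * a.1 = 1 := by
      rw [← Matrix.SpecialLinearGroup.coe_mul, inv_mul_cancel, Matrix.SpecialLinearGroup.coe_one]
    have h2 : a.1 * (a⁻¹).1 = 1 := by
      rw [← Matrix.SpecialLinearGroup.coe_mul, mul_inv_cancel, Matrix.SpecialLinearGroup.coe_one]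
    change (a⁻¹).1 * EE κ κ' F = EE κ κ' F * (a⁻¹).1
    calc (a⁻¹).1 * EE κ κ' F = (a⁻¹).1 * (EE κ κ' F * a.1) * (a⁻¹).1 := by
          rw [Matrix.mul_assoc, Matrix.mul_assoc, h2, Matrix.mul_one]
      _ = (a⁻¹).1 * (a.1 * EE κ κ' F) * (a⁻¹).1 := by rw [show a.1 * EE κ κ' F = EE κ κ' F * a.1 from ha]
      _ = EE κ κ' F * (a⁻¹).1 := by rw [← Matrix.mul_assoc (a⁻¹).1, h1, Matrix.one_mul]

theorem mem_MT {g : Matrix.SpecialLinearGroup (κ ⊕ κ') F} : g ∈ MT κ κ' F ↔ g.1 * EE κ κ' F = EE κ κ' F * g.1 := Iff.rfl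

/-- the image in `PSL` -/
def MM (κ κ' F : Type*) [Fintype κ] [DecidableEq κ] [Fintype κ'] [DecidableEq κ'] [Field F] :
    Subgroup (Matrix.ProjectiveSpecialLinearGroup (κ ⊕ κ') F) := (MT κ κ' F).map pr

theorem pr_mem_MM {g : Matrix.SpecialLinearGroup (κ ⊕ κ') F} : pr g ∈ MM κ κ' F ↔ g ∈ MT κ κ' F := by
  constructor
  · rintro ⟨h, hh, e⟩
    obtain ⟨c, hc⟩ := exists_smul_of_pr_eq e
    rw [mem_MT, hc, Matrix.smul_mul, Matrix.mul_smul, show h.1 * EE κ κ' F = EE κ κ' F * h.1 from hh]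
  · intro h
    exact ⟨g, h, rfl⟩

theorem MM_ne_top [Nonempty κ] [Nonempty κ'] : MM κ κ' F ≠ ⊤ := by
  intro h
  obtain ⟨i⟩ : Nonempty κ := inferInstance
  obtain ⟨j⟩ : Nonempty κ' := inferInstance
  have hij : (Sum.inl i : κ ⊕ κ') ≠ Sum.inr j := by simp
  have h1 : pr (Matrix.SpecialLinearGroup.transvection hij (1 : F)) ∈ MM κ κ' F := by rw [h]; trivial
  rw [pr_mem_MM, mem_MT] at h1
  have h2 := congrFun (congrFun h1 (Sum.inl i)) (Sum.inr j)
  have h3 : (Matrix.SpecialLinearGroup.transvection hij (1 : F)).1 = 1 + single (Sum.inl i) (Sum.inr j) 1 := rfl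
  rw [h3, Matrix.add_mul, Matrix.mul_add, Matrix.one_mul, Matrix.mul_one, Matrix.add_apply, Matrix.add_apply] at h2
  have h4 := add_left_cancel h2
  simp [EE, Matrix.mul_apply, single_apply, fromBlocks] at h4

/-- block embedding -/
def jb (κ' : Type*) [Fintype κ'] [DecidableEq κ'] :
    Matrix.SpecialLinearGroup κ F →* Matrix.SpecialLinearGroup (κ ⊕ κ') F where
  toFun h := ⟨fromBlocks h.1 0 0 1, by rw [det_fromBlocks_zero₂₁, h.2, det_one, mul_one]⟩
  map_one' := by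
    apply Subtype.ext
    exact fromBlocks_one
  map_mul' a b := by
    apply Subtype.ext
    change fromBlocks (a.1 * b.1) 0 0 1 = fromBlocks a.1 0 0 1 * fromBlocks b.1 0 0 1
    rw [fromBlocks_multiply]
    simp

theorem coe_jb (h : Matrix.SpecialLinearGroup κ F) : (jb κ' h).1 = fromBlocks h.1 0 0 1 := rfl

theorem jb_mem (h : Matrix.SpecialLinearGroup κ F) : jb κ' h ∈ MT κ κ' F := by
  rw [mem_MT, coe_jb]
  unfold EE
  rw [fromBlocks_multiply, fromBlocks_multiply]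
  simp

theorem pr_jb_injective [Nonempty κ'] :
    Function.Injective ((pr : Matrix.SpecialLinearGroup (κ ⊕ κ') F →* _).comp (jb (F := F) (κ := κ) κ')) := by
  rw [injective_iff_map_eq_one]
  intro h hh
  obtain ⟨r, -, hr⟩ := Matrix.SpecialLinearGroup.mem_center_iff.1 ((pr_eq_one_iff _).1 hh)
  obtain ⟨j⟩ : Nonempty κ' := inferInstance
  rw [coe_jb] at hr
  have h1 := congrFun (congrFun hr (Sum.inr j)) (Sum.inr j)
  simp only [scalar_apply, diagonal_apply_eq, fromBlocks_apply₂₂, one_apply_eq] at h1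
  subst h1
  apply Subtype.ext
  ext a b
  have h2 := congrFun (congrFun hr (Sum.inl a)) (Sum.inl b)
  rw [map_one] at h2
  simp only [fromBlocks_apply₁₁] at h2
  rw [← h2]
  change (1 : Matrix (κ ⊕ κ') (κ ⊕ κ') F) (Sum.inl a) (Sum.inl b) = (1 : Matrix κ κ F) a b
  rw [one_apply, one_apply]
  simp

section inv

variable {A : GL (κ ⊕ κ') F} {σ : F ≃+* F}

theorem H_comm {g : Matrix.SpecialLinearGroup (κ ⊕ κ') F} (hg : g ∈ MT κ κ' F) :
    ((g⁻¹ : Matrix.SpecialLinearGroup (κ ⊕ κ') F).1.map σ)ᵀ * EE κ κ' F =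
      EE κ κ' F * ((g⁻¹ : Matrix.SpecialLinearGroup (κ ⊕ κ') F).1.map σ)ᵀ := by
  have h1 := (MT κ κ' F).inv_mem hg
  rw [mem_MT] at h1
  have h2 : (((g⁻¹ : Matrix.SpecialLinearGroup (κ ⊕ κ') F).1 * EE κ κ' F).map (σ : F →+* F))ᵀ =
      ((EE κ κ' F * (g⁻¹ : Matrix.SpecialLinearGroup (κ ⊕ κ') F).1).map (σ : F →+* F))ᵀ := by rw [h1]
  have h3 : (EE κ κ' F).map (σ : F →+* F) = EE κ κ' F := EE_map σ
  rw [Matrix.map_mul, Matrix.map_mul, h3, transpose_mul, transpose_mul, EE_transpose] at h2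
  exact h2.symm

theorem inv_comm₁ (h : A.1 * EE κ κ' F = EE κ κ' F * A.1) : A⁻¹.1 * EE κ κ' F = EE κ κ' F * A⁻¹.1 := by
  have h1 : A⁻¹.1 * A.1 = 1 := by rw [← Units.val_mul, inv_mul_cancel, Units.val_one]
  have h2 : A.1 * A⁻¹.1 = 1 := by rw [← Units.val_mul, mul_inv_cancel, Units.val_one]
  calc A⁻¹.1 * EE κ κ' F = A⁻¹.1 * (EE κ κ' F * A.1) * A⁻¹.1 := by
        rw [Matrix.mul_assoc, Matrix.mul_assoc, h2, Matrix.mul_one]
    _ = A⁻¹.1 * (A.1 * EE κ κ' F) * A⁻¹.1 := by rw [h]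
    _ = EE κ κ' F * A⁻¹.1 := by rw [← Matrix.mul_assoc A⁻¹.1, h1, Matrix.one_mul]

theorem inv_comm₂ (h : A.1 * EE κ κ' F = (1 - EE κ κ' F) * A.1) : A⁻¹.1 * EE κ κ' F = (1 - EE κ κ' F) * A⁻¹.1 := by
  have h1 : A⁻¹.1 * A.1 = 1 := by rw [← Units.val_mul, inv_mul_cancel, Units.val_one]
  have h2 : A.1 * A⁻¹.1 = 1 := by rw [← Units.val_mul, mul_inv_cancel, Units.val_one]
  have h3 : EE κ κ' F * A⁻¹.1 = A⁻¹.1 * (1 - EE κ κ' F) := by
    calc EE κ κ' F * A⁻¹.1 = A⁻¹.1 * (A.1 * EE κ κ' F) * A⁻¹.1 := by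
          rw [← Matrix.mul_assoc A⁻¹.1, h1, Matrix.one_mul]
      _ = A⁻¹.1 * ((1 - EE κ κ' F) * A.1) * A⁻¹.1 := by rw [h]
      _ = A⁻¹.1 * (1 - EE κ κ' F) := by rw [Matrix.mul_assoc, Matrix.mul_assoc, h2, Matrix.mul_one]
  rw [Matrix.sub_mul, Matrix.one_mul, h3, Matrix.mul_sub, Matrix.mul_one, sub_sub_cancel]

/-- **invariance** -/
theorem graph_mem_MT (hA : A.1 * EE κ κ' F = EE κ κ' F * A.1 ∨ A.1 * EE κ κ' F = (1 - EE κ κ' F) * A.1)
    {g : Matrix.SpecialLinearGroup (κ ⊕ κ') F} (hg : g ∈ MT κ κ' F) :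
    (cj A * fld σ * itr : MulAut (Matrix.SpecialLinearGroup (κ ⊕ κ') F)) g ∈ MT κ κ' F := by
  have hH := H_comm (σ := σ) hg
  rw [mem_MT, coe_graph]
  set H := ((g⁻¹ : Matrix.SpecialLinearGroup (κ ⊕ κ') F).1.map σ)ᵀ with hHd
  rcases hA with hA | hA
  · have h1 := inv_comm₁ hA
    calc A.1 * H * A⁻¹.1 * EE κ κ' F = A.1 * (H * EE κ κ' F) * A⁻¹.1 := by
          rw [Matrix.mul_assoc _ A⁻¹.1, h1]; simp only [Matrix.mul_assoc]
      _ = (A.1 * EE κ κ' F) * H * A⁻¹.1 := by rw [hH]; simp only [Matrix.mul_assoc]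
      _ = EE κ κ' F * (A.1 * H * A⁻¹.1) := by rw [hA]; simp only [Matrix.mul_assoc]
  · have h1 := inv_comm₂ hA
    have hH' : H * (1 - EE κ κ' F) = (1 - EE κ κ' F) * H := by
      rw [Matrix.mul_sub, Matrix.sub_mul, Matrix.mul_one, Matrix.one_mul, hH]
    have hA' : A.1 * (1 - EE κ κ' F) = EE κ κ' F * A.1 := by
      rw [Matrix.mul_sub, Matrix.mul_one, hA, Matrix.sub_mul, Matrix.one_mul, sub_sub_cancel]
    calc A.1 * H * A⁻¹.1 * EE κ κ' F = A.1 * (H * (1 - EE κ κ' F)) * A⁻¹.1 := by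
          rw [Matrix.mul_assoc _ A⁻¹.1, h1]; simp only [Matrix.mul_assoc]
      _ = (A.1 * (1 - EE κ κ' F)) * H * A⁻¹.1 := by rw [hH']; simp only [Matrix.mul_assoc]
      _ = EE κ κ' F * (A.1 * H * A⁻¹.1) := by rw [hA']; simp only [Matrix.mul_assoc]

theorem x_mem_MM (hA : A.1 * EE κ κ' F = EE κ κ' F * A.1 ∨ A.1 * EE κ κ' F = (1 - EE κ κ' F) * A.1) :
    ∀ m ∈ MM κ κ' F, lift (cj A * fld σ * itr) m ∈ MM κ κ' F := by
  rintro _ ⟨g, hg, rfl⟩
  rw [lift_pr, pr_mem_MM]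
  exact graph_mem_MT hA hg

end inv

section core

variable [Fintype F] {s : ℕ}

/-- **a block diagonal graph automorphism is trivial on the blocks** -/
theorem lift_eq_one [Nonempty κ] [Nonempty κ'] (hs : s.Prime) [IsSimpleGroup (Matrix.ProjectiveSpecialLinearGroup κ F)]
    (hd : s ∣ Nat.card (Matrix.ProjectiveSpecialLinearGroup κ F)) {A : GL (κ ⊕ κ') F} {σ : F ≃+* F} {A1 : GL κ F}
    {A2 : Matrix κ' κ' F} (hA : A.1 = fromBlocks A1.1 0 0 A2) (hPC : PC s (lift (cj A * fld σ * itr))) :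
    lift (cj A1 * fld σ * itr) = 1 := by
  have hAE : A.1 * EE κ κ' F = EE κ κ' F * A.1 := by
    rw [hA]
    unfold EE
    rw [fromBlocks_multiply, fromBlocks_multiply]
    simp
  have hx := x_mem_MM (σ := σ) (Or.inl hAE)
  -- `ψ (jb y) = jb (θ y)`
  have hψ : ∀ y : Matrix.SpecialLinearGroup κ F,
      (cj A * fld σ * itr : MulAut (Matrix.SpecialLinearGroup (κ ⊕ κ') F)) (jb κ' y) =
        jb κ' ((cj A1 * fld σ * itr : MulAut (Matrix.SpecialLinearGroup κ F)) y) := by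
    intro y
    apply Subtype.ext
    rw [coe_graph, coe_jb, coe_graph, ← map_inv, coe_jb]
    have h1 : A.1 * A⁻¹.1 = 1 := by rw [← Units.val_mul, mul_inv_cancel, Units.val_one]
    have h2 : A1.1 * A1⁻¹.1 = 1 := by rw [← Units.val_mul, mul_inv_cancel, Units.val_one]
    have h3 : A1⁻¹.1 * A1.1 = 1 := by rw [← Units.val_mul, inv_mul_cancel, Units.val_one]
    have h5 : ((fromBlocks (y⁻¹ : Matrix.SpecialLinearGroup κ F).1 0 0 (1 : Matrix κ' κ' F)).map σ)ᵀ =
        fromBlocks ((y⁻¹ : Matrix.SpecialLinearGroup κ F).1.map σ)ᵀ 0 0 1 := by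
      rw [fromBlocks_map, fromBlocks_transpose]
      congr 1
      · rw [Matrix.map_zero _ (map_zero _), transpose_zero]
      · rw [Matrix.map_zero _ (map_zero _), transpose_zero]
      · rw [Matrix.map_one _ (map_zero _) (map_one _), transpose_one]
    have h6 : fromBlocks (A1.1 * ((y⁻¹ : Matrix.SpecialLinearGroup κ F).1.map σ)ᵀ * A1⁻¹.1) 0 0 (1 : Matrix κ' κ' F) *
        A.1 = A.1 * fromBlocks ((y⁻¹ : Matrix.SpecialLinearGroup κ F).1.map σ)ᵀ 0 0 1 := by
      rw [hA, fromBlocks_multiply, fromBlocks_multiply]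
      simp only [Matrix.mul_zero, Matrix.zero_mul, add_zero, zero_add, Matrix.one_mul, Matrix.mul_one, Matrix.mul_assoc,
        h3]
    rw [h5, ← h6, Matrix.mul_assoc, h1, Matrix.mul_one]
  -- the normal subgroup
  let N : Subgroup (Matrix.SpecialLinearGroup κ F) := (coreIn s (MM κ κ' F)).comap (pr.comp (jb κ'))
  have hNm : ∀ y, y ∈ N ↔ pr (jb κ' y) ∈ coreIn s (MM κ κ' F) := fun _ => Iff.rfl
  have hNn : N.Normal := by
    refine ⟨fun n hn g => ?_⟩
    rw [hNm] at hn ⊢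
    rw [map_mul, map_mul, map_inv, map_mul, map_mul, map_inv]
    exact coreIn_conj_mem (pr_mem_MM.2 (jb_mem g)) hn
  have hNc : (Nat.card N).Coprime s := by
    have h1 : Nat.card N = Nat.card (N.map (pr.comp (jb κ'))) :=
      (Subgroup.card_map_of_injective pr_jb_injective).symm
    rw [h1]
    refine Nat.Coprime.coprime_dvd_left (Subgroup.card_dvd_of_le ?_) (coreIn_coprime (MM κ κ' F))
    exact Subgroup.map_comap_le _ _
  have hNz : N ≤ Subgroup.center _ := by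
    rcases (hNn.map pr pr_surjective).eq_bot_or_eq_top with h1 | h1
    · intro y hy
      rw [← pr_eq_one_iff]
      have h2 : pr y ∈ N.map pr := ⟨y, hy, rfl⟩
      rw [h1] at h2
      exact h2
    · exfalso
      have h2 : Nat.card (N.map pr) ∣ Nat.card N := Subgroup.card_map_dvd _ _
      rw [h1, Subgroup.card_top] at h2
      exact hs.one_lt.ne' (Nat.Coprime.eq_one_of_dvd hNc.symm (hd.trans h2))
  apply MulEquiv.ext
  intro z
  obtain ⟨y, rfl⟩ := pr_surjective z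
  have h3 := hPC _ MM_ne_top hx (pr (jb κ' y)) (pr_mem_MM.2 (jb_mem y))
  rw [lift_pr, hψ, ← map_inv, ← map_inv, ← map_mul, ← map_mul] at h3
  have h4 := hNz ((hNm _).2 h3)
  rw [← pr_eq_one_iff, map_mul, map_inv, inv_mul_eq_one] at h4
  rw [lift_pr, ← h4]
  rfl

/-- **block antidiagonal graph automorphisms** -/
theorem false_of_swap [Nonempty κ] [Nonempty κ'] {A : GL (κ ⊕ κ') F} {σ : F ≃+* F}
    {X : Matrix κ κ' F} {Y : Matrix κ' κ F} (hA : A.1 = fromBlocks 0 X Y 0)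
    (hPC : PC s (lift (cj A * fld σ * itr))) {a : Matrix.SpecialLinearGroup κ F} (has : a ^ s = 1)
    (hac : a ∉ Subgroup.center (Matrix.SpecialLinearGroup κ F)) : False := by
  have hAE : A.1 * EE κ κ' F = (1 - EE κ κ' F) * A.1 := by
    rw [Matrix.sub_mul, Matrix.one_mul, hA]
    unfold EE
    rw [fromBlocks_multiply, fromBlocks_multiply]
    ext i j
    rcases i with i | i <;> rcases j with j | j <;> simp
  have hx := x_mem_MM (σ := σ) (Or.inr hAE)
  set p := jb κ' a with hp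
  set w := (cj A * fld σ * itr : MulAut (Matrix.SpecialLinearGroup (κ ⊕ κ') F)) p with hw
  have hpM : p ∈ MT κ κ' F := jb_mem a
  have hwM : w ∈ MT κ κ' F := graph_mem_MT (Or.inr hAE) hpM
  have h1 : A.1 * A⁻¹.1 = 1 := by rw [← Units.val_mul, mul_inv_cancel, Units.val_one]
  have hA' : A.1 * (1 - EE κ κ' F) = EE κ κ' F * A.1 := by
    rw [Matrix.mul_sub, Matrix.mul_one, hAE, Matrix.sub_mul, Matrix.one_mul, sub_sub_cancel]
  -- `w E = E`, `p (1 - E) = 1 - E`
  have hp1 : p.1 * (1 - EE κ κ' F) = 1 - EE κ κ' F := by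
    rw [Matrix.mul_sub, Matrix.mul_one, hp, coe_jb, ← fromBlocks_one]
    unfold EE
    rw [fromBlocks_multiply]
    ext i j
    rcases i with i | i <;> rcases j with j | j <;> simp [one_apply]
  have hwE : w.1 * EE κ κ' F = EE κ κ' F := by
    have h2 : ((p⁻¹ : Matrix.SpecialLinearGroup (κ ⊕ κ') F).1.map σ)ᵀ * (1 - EE κ κ' F) = 1 - EE κ κ' F := by
      rw [hp, ← map_inv, coe_jb, fromBlocks_map, fromBlocks_transpose, Matrix.mul_sub, Matrix.mul_one,
        ← fromBlocks_one]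
      unfold EE
      rw [fromBlocks_multiply]
      ext i j
      rcases i with i | i <;> rcases j with j | j <;> simp [Matrix.map_apply, one_apply, eq_comm]
    rw [hw, coe_graph, Matrix.mul_assoc _ A⁻¹.1, inv_comm₂ hAE, ← Matrix.mul_assoc, Matrix.mul_assoc A.1, h2, hA',
      Matrix.mul_assoc, h1, Matrix.mul_one]
  have hEw : EE κ κ' F * w.1 = EE κ κ' F := by rw [← mem_MT.1 hwM, hwE]
  have hcomm : p * w = w * p := by
    apply Subtype.ext
    change p.1 * w.1 = w.1 * p.1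
    have e1 : p.1 = p.1 * EE κ κ' F + (1 - EE κ κ' F) := by
      have := hp1
      rw [Matrix.mul_sub, Matrix.mul_one, sub_eq_iff_eq_add] at this
      rw [add_comm]; exact this
    have e2 : p.1 * w.1 = p.1 * EE κ κ' F + (1 - EE κ κ' F) * w.1 := by
      conv_lhs => rw [e1]
      rw [Matrix.add_mul, Matrix.mul_assoc, hEw]
    have e3 : w.1 * p.1 = p.1 * EE κ κ' F + (1 - EE κ κ' F) * w.1 := by
      conv_lhs => rw [e1]
      rw [Matrix.mul_add, mem_MT.1 hpM, ← Matrix.mul_assoc, hwE, Matrix.mul_sub, Matrix.mul_one, hwE, Matrix.sub_mul,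
        Matrix.one_mul, hEw]
    rw [e2, e3]
  set v := p⁻¹ * w with hv
  have hvs : v ^ s = 1 := by
    have h2 : Commute p⁻¹ w := (show Commute p w from hcomm).inv_left
    rw [hv, h2.mul_pow, inv_pow, hp, ← map_pow, has, map_one, inv_one, one_mul, hw, ← map_pow, hp, ← map_pow, has,
      map_one, map_one]
  have h3 := hPC _ MM_ne_top hx (pr p) (pr_mem_MM.2 hpM)
  rw [lift_pr, ← map_inv, ← map_mul] at h3
  change pr v ∈ coreIn s (MM κ κ' F) at h3
  have h4 : pr v = 1 := by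
    have h5 : orderOf (pr v) ∣ s := orderOf_dvd_of_pow_eq_one (by rw [← map_pow, hvs, map_one])
    have h6 : orderOf (pr v) ∣ Nat.card (coreIn s (MM κ κ' F)) := by
      rw [← Subgroup.orderOf_mk (pr v) h3]
      exact orderOf_dvd_natCard _
    rw [← orderOf_eq_one_iff]
    exact Nat.eq_one_of_dvd_coprimes (coreIn_coprime (s := s) (MM κ κ' F)) h6 h5
  obtain ⟨r, -, hr⟩ := Matrix.SpecialLinearGroup.mem_center_iff.1 ((pr_eq_one_iff _).1 h4)
  apply hac
  have h7 : w.1 = p.1 * scalar _ r := by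
    rw [hr, hv, ← Matrix.SpecialLinearGroup.coe_mul, mul_inv_cancel_left]
  -- the first block
  have h8 : (p.1 * scalar (κ ⊕ κ') r) * EE κ κ' F = EE κ κ' F := by rw [← h7, hwE]
  have h9 : r • a.1 = 1 := by
    ext i j
    have h10 := congrFun (congrFun h8 (Sum.inl i)) (Sum.inl j)
    rw [hp, coe_jb, scalar_apply, ← smul_one_eq_diagonal, Matrix.mul_smul, Matrix.mul_one, Matrix.smul_mul] at h10
    unfold EE at h10
    rw [fromBlocks_multiply] at h10
    simpa using h10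
  have hr0 : r ≠ 0 := by
    rintro rfl
    rw [zero_smul] at h9
    obtain ⟨i⟩ : Nonempty κ := inferInstance
    have := congrFun (congrFun h9 i) i
    simp at this
  have h11 : pr (1 : Matrix.SpecialLinearGroup κ F) = pr a := by
    refine pr_eq_of_smul (c := r⁻¹) ?_
    rw [Matrix.SpecialLinearGroup.coe_one, ← h9, smul_smul, inv_mul_cancel₀ hr0, one_smul]
  rw [← pr_eq_one_iff, ← h11, map_one]

end core

end Cfsg.Agent.H618.PslG
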