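import Cfsg.Agent.ClassicalGeometry.AutPSL.Main
import Cfsg.Agent.H216.Pi.Base

/-!
# S4324, PSL, graph automorphisms: change of basis (helper618)

* `chg C D` : `g ↦ C g D`, `SL ι F ≃* SL ι' F` (`C D = 1`, `D C = 1`); `chgP` on `PSL`;
* `tr_graph` : the transport of `lift (cj A * fld σ * itr)` is `lift (cj (C A σ(C)ᵀ) * fld σ * itr)`.
-/

set_option autoImplicit false

namespace Cfsg.Agent.H618.PslG

open Matrix
open Cfsg.Agent.ClassicalGeometry.AutPSL.Root
open Cfsg.Agent.ClassicalGeometry.AutPSL.Auto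
open Cfsg.Agent.ClassicalGeometry.AutPSL.Main

variable {ι ι' F : Type*} [Fintype ι] [DecidableEq ι] [Fintype ι'] [DecidableEq ι'] [Field F]

/-- change of basis -/
def chg (C : Matrix ι' ι F) (D : Matrix ι ι' F) (h1 : C * D = 1) (h2 : D * C = 1) :
    Matrix.SpecialLinearGroup ι F ≃* Matrix.SpecialLinearGroup ι' F where
  toFun g := ⟨C * g.1 * D, by rw [det_conj_of_mul_eq_one h1 h2, g.2]⟩
  invFun g := ⟨D * g.1 * C, by rw [det_conj_of_mul_eq_one h2 h1, g.2]⟩
  left_inv g := by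
    apply Subtype.ext
    change D * (C * g.1 * D) * C = g.1
    calc D * (C * g.1 * D) * C = (D * C) * g.1 * (D * C) := by simp only [Matrix.mul_assoc]
      _ = g.1 := by rw [h2, Matrix.one_mul, Matrix.mul_one]
  right_inv g := by
    apply Subtype.ext
    change C * (D * g.1 * C) * D = g.1
    calc C * (D * g.1 * C) * D = (C * D) * g.1 * (C * D) := by simp only [Matrix.mul_assoc]
      _ = g.1 := by rw [h1, Matrix.one_mul, Matrix.mul_one]
  map_mul' g h := by
    apply Subtype.ext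
    change C * (g.1 * h.1) * D = (C * g.1 * D) * (C * h.1 * D)
    have e1 : C * (g.1 * h.1) * D = C * g.1 * (1 : Matrix ι ι F) * h.1 * D := by
      rw [Matrix.mul_one]; simp only [Matrix.mul_assoc]
    rw [e1, ← h2]
    simp only [Matrix.mul_assoc]

variable (C : Matrix ι' ι F) (D : Matrix ι ι' F) (h1 : C * D = 1) (h2 : D * C = 1)

theorem coe_chg (g : Matrix.SpecialLinearGroup ι F) : ((chg C D h1 h2 g : Matrix.SpecialLinearGroup ι' F) :
    Matrix ι' ι' F) = C * g.1 * D := rfl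

theorem coe_chg_symm (g : Matrix.SpecialLinearGroup ι' F) : (((chg C D h1 h2).symm g : Matrix.SpecialLinearGroup ι F) :
    Matrix ι ι F) = D * g.1 * C := rfl

/-- change of basis on `PSL` -/
def chgP : Matrix.ProjectiveSpecialLinearGroup ι F ≃* Matrix.ProjectiveSpecialLinearGroup ι' F :=
  QuotientGroup.congr _ _ (chg C D h1 h2) (by
    ext g
    constructor
    · rintro ⟨k, hk, rfl⟩
      rw [Subgroup.mem_center_iff]
      intro y
      obtain ⟨y, rfl⟩ := (chg C D h1 h2).surjective y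
      have h3 := Subgroup.mem_center_iff.1 hk y
      exact (map_mul (chg C D h1 h2) y k).symm.trans ((congrArg _ h3).trans (map_mul _ _ _))
    · intro hg
      refine ⟨(chg C D h1 h2).symm g, ?_, (chg C D h1 h2).apply_symm_apply g⟩
      rw [SetLike.mem_coe, Subgroup.mem_center_iff]
      intro y
      have h3 := Subgroup.mem_center_iff.1 hg (chg C D h1 h2 y)
      apply (chg C D h1 h2).injective
      rw [map_mul, map_mul, MulEquiv.apply_symm_apply]
      exact h3)

theorem chgP_pr (g : Matrix.SpecialLinearGroup ι F) : chgP C D h1 h2 (pr g) = pr (chg C D h1 h2 g) := rfl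

theorem chgP_symm_pr (g : Matrix.SpecialLinearGroup ι' F) :
    (chgP C D h1 h2).symm (pr g) = pr ((chg C D h1 h2).symm g) := rfl

/-- the new matrix -/
def newA (A : GL ι F) (σ : F ≃+* F) : GL ι' F where
  val := C * A.1 * (C.map σ)ᵀ
  inv := (D.map σ)ᵀ * A⁻¹.1 * D
  val_inv := by
    have h3 : (C.map σ)ᵀ * (D.map σ)ᵀ = 1 := by
      rw [← transpose_mul, ← RingEquiv.coe_toRingHom, ← Matrix.map_mul, h2]
      rw [Matrix.map_one _ (map_zero _) (map_one _), transpose_one]
    calc C * A.1 * (C.map σ)ᵀ * ((D.map σ)ᵀ * A⁻¹.1 * D) = C * A.1 * ((C.map σ)ᵀ * (D.map σ)ᵀ) * A⁻¹.1 * D := by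
          simp only [Matrix.mul_assoc]
      _ = C * (A.1 * A⁻¹.1) * D := by rw [h3]; simp only [Matrix.mul_assoc, Matrix.one_mul]
      _ = 1 := by rw [← Units.val_mul, mul_inv_cancel, Units.val_one, Matrix.mul_one, h1]
  inv_val := by
    have h3 : (D.map σ)ᵀ * (C.map σ)ᵀ = 1 := by
      rw [← transpose_mul, ← RingEquiv.coe_toRingHom, ← Matrix.map_mul, h1]
      rw [Matrix.map_one _ (map_zero _) (map_one _), transpose_one]
    calc (D.map σ)ᵀ * A⁻¹.1 * D * (C * A.1 * (C.map σ)ᵀ) = (D.map σ)ᵀ * A⁻¹.1 * (D * C) * A.1 * (C.map σ)ᵀ := by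
          simp only [Matrix.mul_assoc]
      _ = (D.map σ)ᵀ * (A⁻¹.1 * A.1) * (C.map σ)ᵀ := by rw [h2]; simp only [Matrix.mul_assoc, Matrix.one_mul]
      _ = 1 := by rw [← Units.val_mul, inv_mul_cancel, Units.val_one, Matrix.mul_one, h3]

theorem coe_graph (A : GL ι F) (σ : F ≃+* F) (g : Matrix.SpecialLinearGroup ι F) :
    (((cj A * fld σ * itr : MulAut (Matrix.SpecialLinearGroup ι F)) g : Matrix.SpecialLinearGroup ι F) :
      Matrix ι ι F) = A.1 * ((g⁻¹ : Matrix.SpecialLinearGroup ι F).1.map σ)ᵀ * A⁻¹.1 := rfl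

/-- **the transport of a graph automorphism** -/
theorem tr_graph (A : GL ι F) (σ : F ≃+* F) :
    H459.Rad.tr (chgP C D h1 h2) (lift (cj A * fld σ * itr)) = lift (cj (newA C D h1 h2 A σ) * fld σ * itr) := by
  apply MulEquiv.ext
  intro x
  obtain ⟨g, rfl⟩ := pr_surjective x
  rw [H459.Rad.tr_apply, chgP_symm_pr, lift_pr, chgP_pr, lift_pr]
  congr 1
  apply Subtype.ext
  rw [coe_graph]
  change C * (A.1 * (((((chg C D h1 h2).symm g)⁻¹ : Matrix.SpecialLinearGroup ι F).1).map σ)ᵀ * A⁻¹.1) * D =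
    (C * A.1 * (C.map σ)ᵀ) * ((g⁻¹ : Matrix.SpecialLinearGroup ι' F).1.map σ)ᵀ * ((D.map σ)ᵀ * A⁻¹.1 * D)
  rw [← map_inv, coe_chg_symm, ← RingEquiv.coe_toRingHom, Matrix.map_mul, Matrix.map_mul, transpose_mul, transpose_mul]
  simp only [Matrix.mul_assoc]

end Cfsg.Agent.H618.PslG
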