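import Cfsg.Agent.H618.PslG.Chg

/-!
# Elements of order `s` in `SL_m(q)` (helper618)

* `exists_elt` : a noncentral element `a` of `SL_m(q)` with `a ^ s = 1`, if `ord_s(q) ≤ m`, `2 ≤ m`, `s` odd;
* `dvd_card_psl`.
-/

set_option autoImplicit false

namespace Cfsg.Agent.H618.PslG

open Matrix
open Cfsg.Agent.ClassicalGeometry.AutPSL.Root

variable {F : Type*} [Field F] [Fintype F] {m s d : ℕ}

theorem exists_elt (hm : 2 ≤ m) (hs : s.Prime) (h3 : 3 ≤ s) (hd : orderOf ((Fintype.card F : ℕ) : ZMod s) = d)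
    (hd0 : 1 ≤ d) (hdm : d ≤ m) :
    ∃ a : Matrix.SpecialLinearGroup (Fin m) F, a ^ s = 1 ∧ a ∉ Subgroup.center (Matrix.SpecialLinearGroup (Fin m) F) := by
  classical
  have hsf : Fact s.Prime := ⟨hs⟩
  set q := Fintype.card F with hq
  have hq1 : 1 ≤ q := Fintype.card_pos
  have hdvd : ∀ k, ((q : ℕ) : ZMod s) ^ k = 1 → s ∣ q ^ k - 1 := by
    intro k hk
    rw [← ZMod.natCast_eq_zero_iff, Nat.cast_sub (Nat.one_le_pow _ _ hq1), Nat.cast_pow, hk]
    simp
  have hpow : s ∣ q ^ d - 1 := hdvd d (by rw [← hd]; exact pow_orderOf_eq_one _)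
  have hcard : Nat.card Fˣ = q - 1 := by rw [Nat.card_units, Nat.card_eq_fintype_card]
  by_cases h1 : s ∣ q - 1
  · -- diagonal elements
    obtain ⟨μ, hμ⟩ := exists_prime_orderOf_dvd_card' (G := Fˣ) s (by rw [hcard]; exact h1)
    let i0 : Fin m := ⟨0, by omega⟩
    let i1 : Fin m := ⟨1, by omega⟩
    have h01 : i0 ≠ i1 := by intro h; have := congrArg Fin.val h; simp [i0, i1] at this
    let t : Fin m → F := fun i => if i = i0 then (μ : F) else if i = i1 then ((μ⁻¹ : Fˣ) : F) else 1
    have ht0 : t i0 = μ := by simp [t]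
    have ht1 : t i1 = ((μ⁻¹ : Fˣ) : F) := by simp [t, h01.symm]
    have hdet : (Matrix.diagonal t).det = 1 := by
      rw [det_diagonal, ← Finset.prod_subset (Finset.subset_univ {i0, i1}) (by
        intro x _ hx
        simp only [Finset.mem_insert, Finset.mem_singleton, not_or] at hx
        simp [t, hx.1, hx.2]), Finset.prod_pair h01, ht0, ht1, ← Units.val_mul, mul_inv_cancel, Units.val_one]
    let a : Matrix.SpecialLinearGroup (Fin m) F := ⟨Matrix.diagonal t, hdet⟩
    refine ⟨a, ?_, ?_⟩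
    · apply Subtype.ext
      rw [Matrix.SpecialLinearGroup.coe_pow, Matrix.SpecialLinearGroup.coe_one]
      change (Matrix.diagonal t) ^ s = 1
      rw [Matrix.diagonal_pow, ← Matrix.diagonal_one]
      congr 1
      funext i
      rw [Pi.pow_apply]
      have hμs : (μ : F) ^ s = 1 := by rw [← Units.val_pow_eq_pow_val, ← hμ, pow_orderOf_eq_one, Units.val_one]
      have hμs' : ((μ⁻¹ : Fˣ) : F) ^ s = 1 := by
        rw [← Units.val_pow_eq_pow_val, inv_pow, ← hμ, pow_orderOf_eq_one, inv_one, Units.val_one]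
      simp only [t]
      split_ifs
      · exact hμs
      · exact hμs'
      · exact one_pow _
    · intro hc
      obtain ⟨r, -, hr⟩ := Matrix.SpecialLinearGroup.mem_center_iff.1 hc
      have e0 := congrFun (congrFun hr i0) i0
      have e1 := congrFun (congrFun hr i1) i1
      change scalar (Fin m) r i0 i0 = Matrix.diagonal t i0 i0 at e0
      change scalar (Fin m) r i1 i1 = Matrix.diagonal t i1 i1 at e1
      rw [scalar_apply, diagonal_apply_eq, diagonal_apply_eq] at e0 e1
      have e2 : μ = μ⁻¹ := Units.ext (by rw [← ht0, ← e0, e1, ht1])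
      have e3 : μ ^ 2 = 1 := by rw [sq]; nth_rewrite 2 [e2]; exact mul_inv_cancel _
      have e4 := orderOf_le_of_pow_eq_one (by norm_num) e3
      omega
  · -- `s ∤ q - 1`
    have hG : s ∣ Nat.card (GL (Fin m) F) := by
      rw [Matrix.card_GL_field]
      have hlt : m - d < m := by omega
      refine dvd_trans ?_ (Finset.dvd_prod_of_mem _ (Finset.mem_univ (⟨m - d, hlt⟩ : Fin m)))
      have e : Fintype.card F ^ m - Fintype.card F ^ (m - d) = q ^ (m - d) * (q ^ d - 1) := by
        rw [Nat.mul_sub, mul_one, ← pow_add, Nat.sub_add_cancel hdm]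
      rw [e]
      exact Dvd.dvd.mul_left hpow _
    obtain ⟨g, hg⟩ := exists_prime_orderOf_dvd_card' s hG
    have hun : ∀ u : Fˣ, u ^ s = 1 → u = 1 := by
      intro u hu
      have e1 : orderOf u ∣ s := orderOf_dvd_of_pow_eq_one hu
      have e2 : orderOf u ∣ q - 1 := by rw [← hcard]; exact orderOf_dvd_natCard u
      rcases (Nat.dvd_prime hs).1 e1 with e3 | e3
      · exact orderOf_eq_one_iff.1 e3
      · exact absurd (e3 ▸ e2) h1
    have hgs : g ^ s = 1 := by rw [← hg]; exact pow_orderOf_eq_one g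
    have hdet : Matrix.GeneralLinearGroup.det g = 1 := hun _ (by rw [← map_pow, hgs, map_one])
    have hdet' : g.1.det = 1 := congrArg Units.val hdet
    let a : Matrix.SpecialLinearGroup (Fin m) F := ⟨g.1, hdet'⟩
    refine ⟨a, ?_, ?_⟩
    · apply Subtype.ext
      rw [Matrix.SpecialLinearGroup.coe_pow, Matrix.SpecialLinearGroup.coe_one]
      change g.1 ^ s = 1
      rw [← Units.val_pow_eq_pow_val, hgs, Units.val_one]
    · intro hc
      obtain ⟨r, -, hr⟩ := Matrix.SpecialLinearGroup.mem_center_iff.1 hc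
      change scalar (Fin m) r = g.1 at hr
      let i0 : Fin m := ⟨0, by omega⟩
      have hr1 : r ^ s = 1 := by
        have e1 : scalar (Fin m) r ^ s = 1 := by
          rw [hr, ← Units.val_pow_eq_pow_val, hgs, Units.val_one]
        rw [← map_pow] at e1
        have e2 := congrFun (congrFun e1 i0) i0
        rwa [scalar_apply, diagonal_apply_eq, one_apply_eq] at e2
      have hr0 : r ≠ 0 := by
        rintro rfl
        rw [zero_pow hs.ne_zero] at hr1
        exact zero_ne_one hr1
      have e3 := hun (Units.mk0 r hr0) (Units.ext (by rw [Units.val_pow_eq_pow_val, Units.val_mk0, hr1, Units.val_one]))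
      have e4 : r = 1 := congrArg Units.val e3
      have e5 : g = 1 := Units.ext (by rw [← hr, e4, map_one, Units.val_one])
      rw [e5, orderOf_one] at hg
      exact hs.one_lt.ne hg

theorem dvd_card_psl (hm : 2 ≤ m) (hs : s.Prime) (h3 : 3 ≤ s) (hd : orderOf ((Fintype.card F : ℕ) : ZMod s) = d)
    (hd0 : 1 ≤ d) (hdm : d ≤ m) : s ∣ Nat.card (Matrix.ProjectiveSpecialLinearGroup (Fin m) F) := by
  obtain ⟨a, ha, hac⟩ := exists_elt (F := F) hm hs h3 hd hd0 hdm
  have h1 : orderOf (pr a) = s := by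
    have : Fact s.Prime := ⟨hs⟩
    refine orderOf_eq_prime (by rw [← map_pow, ha, map_one]) fun h => hac ((pr_eq_one_iff _).1 h)
  rw [← h1]
  exact orderOf_dvd_natCard _

end Cfsg.Agent.H618.PslG
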