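import Cfsg.Agent.H618.PslG.Blk
import Cfsg.Agent.H618.PslG.Elt
import Cfsg.Agent.H199.PslAut

/-!
# S4324, PSL, graph automorphisms: the form (helper618)

* `involution` : a graph automorphism of prime order has order 2: `σ ^ 2 = 1`, `A = r σ(A)ᵀ`;
* `bf` the form `b (u, v) = σ(v)ᵀ A⁻¹ u`; `exists_gram` : normal form from a basis;
* `exists_split` : a nonisotropic vector.
-/

set_option autoImplicit false

namespace Cfsg.Agent.H618.PslG

open Matrix
open Cfsg.Agent.ClassicalGeometry.AutPSL.Root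
open Cfsg.Agent.ClassicalGeometry.AutPSL.Auto
open Cfsg.Agent.ClassicalGeometry.AutPSL.Main
open Cfsg.Agent.H199.PslAut (Psi phi iot mapGL itGL phi_mul_Psi iot_mul_Psi iot_mul_phi iot_mul_iot Psi_phi_eq not_graph' scal)

section inv

variable {F : Type*} [Field F] {n : ℕ}

theorem lift_eq (A : GL (Fin n) F) (σ : F ≃+* F) :
    lift (cj A * fld σ * itr) = Psi n F A * phi n F σ * iot n F := by
  rw [map_mul, map_mul]
  rfl

theorem Psi_phi_mul (A B : GL (Fin n) F) (σ τ : F ≃+* F) :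
    (Psi n F A * phi n F σ) * (Psi n F B * phi n F τ) = Psi n F (A * mapGL σ B) * phi n F (σ * τ) := by
  calc (Psi n F A * phi n F σ) * (Psi n F B * phi n F τ) = Psi n F A * (phi n F σ * Psi n F B) * phi n F τ := by
        simp only [mul_assoc]
    _ = _ := by rw [phi_mul_Psi, map_mul, map_mul]; simp only [mul_assoc]

theorem graph_sq (A : GL (Fin n) F) (σ : F ≃+* F) :
    (Psi n F A * phi n F σ * iot n F) * (Psi n F A * phi n F σ * iot n F) =
      Psi n F (A * mapGL σ (itGL A)) * phi n F (σ * σ) := by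
  calc (Psi n F A * phi n F σ * iot n F) * (Psi n F A * phi n F σ * iot n F)
      = (Psi n F A * phi n F σ) * ((iot n F * Psi n F A) * phi n F σ * iot n F) := by simp only [mul_assoc]
    _ = (Psi n F A * phi n F σ) * (Psi n F (itGL A) * (iot n F * phi n F σ) * iot n F) := by
        rw [iot_mul_Psi]; simp only [mul_assoc]
    _ = (Psi n F A * phi n F σ) * (Psi n F (itGL A) * phi n F σ) * (iot n F * iot n F) := by
        rw [iot_mul_phi]; simp only [mul_assoc]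
    _ = _ := by rw [iot_mul_iot, mul_one, Psi_phi_mul]

theorem graph_sq_pow (A : GL (Fin n) F) (σ : F ≃+* F) (k : ℕ) : ∃ (C : GL (Fin n) F) (τ : F ≃+* F),
    ((Psi n F A * phi n F σ * iot n F) * (Psi n F A * phi n F σ * iot n F)) ^ k = Psi n F C * phi n F τ := by
  induction k with
  | zero => exact ⟨1, 1, by rw [pow_zero, map_one, map_one, mul_one]⟩
  | succ k ih =>
    obtain ⟨C, τ, h⟩ := ih
    exact ⟨_, _, by rw [pow_succ, h, graph_sq, Psi_phi_mul]⟩

/-- **a graph automorphism of prime order is an involution** -/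
theorem involution (hn : 3 ≤ n) (A : GL (Fin n) F) (σ : F ≃+* F)
    (hp : (orderOf (lift (cj A * fld σ * itr) : MulAut (Matrix.ProjectiveSpecialLinearGroup (Fin n) F))).Prime) :
    σ * σ = 1 ∧ ∃ r : F, r ≠ 0 ∧ A.1 = r • (A.1.map σ)ᵀ := by
  rw [lift_eq] at hp
  have h1 := pow_orderOf_eq_one (Psi n F A * phi n F σ * iot n F)
  rcases hp.eq_two_or_odd' with h2 | ⟨k, hk⟩
  · rw [h2, sq, graph_sq] at h1
    obtain ⟨⟨u, hu⟩, hσ⟩ := Psi_phi_eq (by omega) (τ := 1) (h1.trans (map_one _).symm)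
    refine ⟨hσ, (u : F), u.ne_zero, ?_⟩
    have h3 : A.1 * ((A⁻¹.1)ᵀ).map σ = scalar (Fin n) (u : F) := congrArg Units.val hu
    have h4 : ((A⁻¹.1)ᵀ).map σ * (A.1.map σ)ᵀ = 1 := by
      have e1 : (A.1.map σ)ᵀ = (A.1ᵀ).map σ := rfl
      rw [e1, ← RingEquiv.coe_toRingHom, ← Matrix.map_mul, ← transpose_mul, ← Units.val_mul, mul_inv_cancel,
        Units.val_one, transpose_one, Matrix.map_one _ (map_zero _) (map_one _)]
    calc A.1 = A.1 * (((A⁻¹.1)ᵀ).map σ * (A.1.map σ)ᵀ) := by rw [h4, Matrix.mul_one]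
      _ = scalar (Fin n) (u : F) * (A.1.map σ)ᵀ := by rw [← Matrix.mul_assoc, h3]
      _ = _ := by rw [scalar_apply, ← smul_eq_diagonal_mul]
  · exfalso
    obtain ⟨C, τ, h⟩ := graph_sq_pow A σ k
    rw [hk, pow_succ, pow_mul, sq, h] at h1
    rw [← mul_assoc, Psi_phi_mul] at h1
    exact not_graph' hn (h1.trans (map_one (phi n F)).symm)

end inv

section form

variable {ι F : Type*} [Fintype ι] [DecidableEq ι] [Field F]

/-- the form attached to a graph automorphism -/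
def bf (A : GL ι F) (σ : F ≃+* F) (u v : ι → F) : F := (fun i => σ (v i)) ⬝ᵥ (A⁻¹.1 *ᵥ u)

variable {A : GL ι F} {σ : F ≃+* F}

theorem bf_add_left (u v w : ι → F) : bf A σ (u + v) w = bf A σ u w + bf A σ v w := by
  unfold bf; rw [mulVec_add, dotProduct_add]

theorem bf_smul_left (c : F) (u w : ι → F) : bf A σ (c • u) w = c * bf A σ u w := by
  unfold bf; rw [mulVec_smul, dotProduct_smul, smul_eq_mul]

theorem bf_add_right (u v w : ι → F) : bf A σ u (v + w) = bf A σ u v + bf A σ u w := by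
  unfold bf
  rw [← add_dotProduct]
  congr 1
  funext i
  exact map_add σ _ _

theorem bf_smul_right (c : F) (u w : ι → F) : bf A σ u (c • w) = σ c * bf A σ u w := by
  unfold bf
  rw [← smul_eq_mul (σ c), ← smul_dotProduct]
  congr 1
  funext i
  exact map_mul σ _ _

theorem bf_nd {u : ι → F} (h : ∀ v, bf A σ u v = 0) : u = 0 := by
  have h1 : A⁻¹.1 *ᵥ u = 0 := by
    funext i
    have h2 := h (Pi.single i 1)
    unfold bf at h2
    have e1 : (fun j => σ ((Pi.single i (1 : F) : ι → F) j)) = Pi.single i (1 : F) := by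
      funext j
      by_cases hj : j = i
      · subst hj; simp
      · simp [hj]
    rw [e1, single_one_dotProduct] at h2
    exact h2
  calc u = A.1 *ᵥ (A⁻¹.1 *ᵥ u) := by
        rw [mulVec_mulVec, ← Units.val_mul, mul_inv_cancel, Units.val_one, one_mulVec]
    _ = 0 := by rw [h1, mulVec_zero]

theorem inv_of_eq {r : F} (hr0 : r ≠ 0) (hr : A.1 = r • (A.1.map σ)ᵀ) : A⁻¹.1 = r⁻¹ • (A⁻¹.1.map σ)ᵀ := by
  have h1 : (r⁻¹ • (A⁻¹.1.map σ)ᵀ) * A.1 = 1 := by
    have h2 : (A⁻¹.1.map σ)ᵀ * (A.1.map σ)ᵀ = 1 := by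
      rw [← transpose_mul, ← RingEquiv.coe_toRingHom, ← Matrix.map_mul, ← Units.val_mul, mul_inv_cancel, Units.val_one,
        Matrix.map_one _ (map_zero _) (map_one _), transpose_one]
    have h3 : (r⁻¹ • (A⁻¹.1.map σ)ᵀ) * A.1 = (r⁻¹ • (A⁻¹.1.map σ)ᵀ) * (r • (A.1.map σ)ᵀ) := congrArg _ hr
    rw [h3, Matrix.smul_mul, Matrix.mul_smul, smul_smul, inv_mul_cancel₀ hr0, one_smul, h2]
  calc A⁻¹.1 = (r⁻¹ • (A⁻¹.1.map σ)ᵀ) * A.1 * A⁻¹.1 := by rw [h1, Matrix.one_mul]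
    _ = _ := by rw [Matrix.mul_assoc, ← Units.val_mul, mul_inv_cancel, Units.val_one, Matrix.mul_one]

theorem bf_symm (hσ : σ * σ = 1) {r : F} (hr0 : r ≠ 0) (hr : A.1 = r • (A.1.map σ)ᵀ) (u v : ι → F) :
    bf A σ v u = r⁻¹ * σ (bf A σ u v) := by
  have hσ' : ∀ t, σ (σ t) = t := fun t => RingEquiv.congr_fun hσ t
  have hA := inv_of_eq hr0 hr
  have hA' : ∀ i j, A⁻¹.1 i j = r⁻¹ * σ (A⁻¹.1 j i) := fun i j => by
    have := congrFun (congrFun hA i) j
    exact this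
  unfold bf
  simp only [dotProduct, mulVec, map_sum, map_mul, Finset.mul_sum, hσ']
  rw [Finset.sum_comm]
  refine Finset.sum_congr rfl fun i _ => Finset.sum_congr rfl fun j _ => ?_
  rw [hA' j i]
  ring

theorem bf_symm_zero (hσ : σ * σ = 1) {r : F} (hr0 : r ≠ 0) (hr : A.1 = r • (A.1.map σ)ᵀ) {u v : ι → F}
    (h : bf A σ u v = 0) : bf A σ v u = 0 := by
  rw [bf_symm hσ hr0 hr, h, map_zero, mul_zero]

/-- **the normal form in a basis** -/
theorem exists_gram {κ : Type*} [Fintype κ] [DecidableEq κ] (A : GL ι F) (σ : F ≃+* F) (bs : Module.Basis κ F (ι → F)) :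
    ∃ (e : Matrix.ProjectiveSpecialLinearGroup ι F ≃* Matrix.ProjectiveSpecialLinearGroup κ F) (B : GL κ F),
      (∀ i j, B⁻¹.1 i j = bf A σ (bs j) (bs i)) ∧
      H459.Rad.tr e (lift (cj A * fld σ * itr)) = lift (cj B * fld σ * itr) := by
  have h1 : bs.toMatrix (Pi.basisFun F ι) * (Pi.basisFun F ι).toMatrix bs = 1 := bs.toMatrix_mul_toMatrix_flip _
  have h2 : (Pi.basisFun F ι).toMatrix bs * bs.toMatrix (Pi.basisFun F ι) = 1 :=
    (Pi.basisFun F ι).toMatrix_mul_toMatrix_flip _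
  have hD : ∀ i j, (Pi.basisFun F ι).toMatrix bs i j = bs j i := fun i j => by
    rw [Module.Basis.toMatrix_apply, Pi.basisFun_repr]
  refine ⟨chgP _ _ h1 h2, newA _ _ h1 h2 A σ, fun i j => ?_, tr_graph _ _ h1 h2 A σ⟩
  change ((((Pi.basisFun F ι).toMatrix bs).map σ)ᵀ * A⁻¹.1 * (Pi.basisFun F ι).toMatrix bs) i j = _
  rw [Matrix.mul_assoc, Matrix.mul_apply]
  unfold bf
  simp only [dotProduct, mulVec, transpose_apply, map_apply, Matrix.mul_apply, hD]

theorem blocks_of_inv {κ κ' : Type*} [Fintype κ] [DecidableEq κ] [Fintype κ'] [DecidableEq κ'] {B : GL (κ ⊕ κ') F}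
    {X1 : Matrix κ κ F} {X2 : Matrix κ' κ' F} (h : B⁻¹.1 = fromBlocks X1 0 0 X2) :
    ∃ (B1 : GL κ F) (B2 : Matrix κ' κ' F), B.1 = fromBlocks B1.1 0 0 B2 ∧ B1⁻¹.1 = X1 := by
  have e0 : B.1 = fromBlocks B.1.toBlocks₁₁ B.1.toBlocks₁₂ B.1.toBlocks₂₁ B.1.toBlocks₂₂ := (fromBlocks_toBlocks _).symm
  have e1 : B.1 * B⁻¹.1 = 1 := by rw [← Units.val_mul, mul_inv_cancel, Units.val_one]
  have e2 : B⁻¹.1 * B.1 = 1 := by rw [← Units.val_mul, inv_mul_cancel, Units.val_one]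
  rw [h, e0, fromBlocks_multiply, ← fromBlocks_one] at e1
  rw [h, e0, fromBlocks_multiply, ← fromBlocks_one] at e2
  obtain ⟨a1, a2, a3, a4⟩ := fromBlocks_inj.1 e1
  obtain ⟨b1, b2, b3, b4⟩ := fromBlocks_inj.1 e2
  rw [Matrix.mul_zero, add_zero] at a1
  rw [Matrix.mul_zero, zero_add] at a2
  rw [Matrix.mul_zero, add_zero] at a3
  rw [Matrix.mul_zero, zero_add] at a4
  rw [Matrix.zero_mul, add_zero] at b1 b2
  rw [Matrix.zero_mul, zero_add] at b3 b4
  have c1 : B.1.toBlocks₁₂ = 0 := by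
    calc B.1.toBlocks₁₂ = B.1.toBlocks₁₁ * X1 * B.1.toBlocks₁₂ := by rw [a1, Matrix.one_mul]
      _ = 0 := by rw [Matrix.mul_assoc, b2, Matrix.mul_zero]
  have c2 : B.1.toBlocks₂₁ = 0 := by
    calc B.1.toBlocks₂₁ = B.1.toBlocks₂₂ * X2 * B.1.toBlocks₂₁ := by rw [a4, Matrix.one_mul]
      _ = 0 := by rw [Matrix.mul_assoc, b3, Matrix.mul_zero]
  refine ⟨⟨B.1.toBlocks₁₁, X1, a1, b1⟩, B.1.toBlocks₂₂, ?_, rfl⟩
  change B.1 = fromBlocks B.1.toBlocks₁₁ 0 0 B.1.toBlocks₂₂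
  rw [c1, c2] at e0
  exact e0

theorem antiblocks_of_inv {κ κ' : Type*} [Fintype κ] [DecidableEq κ] [Fintype κ'] [DecidableEq κ'] {B : GL (κ ⊕ κ') F}
    {X : Matrix κ κ' F} {Y : Matrix κ' κ F} (h : B⁻¹.1 = fromBlocks 0 X Y 0) :
    ∃ (X' : Matrix κ κ' F) (Y' : Matrix κ' κ F), B.1 = fromBlocks 0 X' Y' 0 := by
  have e0 : B.1 = fromBlocks B.1.toBlocks₁₁ B.1.toBlocks₁₂ B.1.toBlocks₂₁ B.1.toBlocks₂₂ := (fromBlocks_toBlocks _).symm
  have e1 : B.1 * B⁻¹.1 = 1 := by rw [← Units.val_mul, mul_inv_cancel, Units.val_one]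
  have e2 : B⁻¹.1 * B.1 = 1 := by rw [← Units.val_mul, inv_mul_cancel, Units.val_one]
  rw [h, e0, fromBlocks_multiply, ← fromBlocks_one] at e1
  rw [h, e0, fromBlocks_multiply, ← fromBlocks_one] at e2
  obtain ⟨a1, a2, a3, a4⟩ := fromBlocks_inj.1 e1
  obtain ⟨b1, b2, b3, b4⟩ := fromBlocks_inj.1 e2
  rw [Matrix.mul_zero, add_zero] at a2 a4
  rw [Matrix.mul_zero, zero_add] at a1 a3
  rw [Matrix.zero_mul, zero_add] at b1 b2
  rw [Matrix.zero_mul, add_zero] at b3 b4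
  have c1 : B.1.toBlocks₁₁ = 0 := by
    calc B.1.toBlocks₁₁ = B.1.toBlocks₁₁ * (X * B.1.toBlocks₂₁) := by rw [b1, Matrix.mul_one]
      _ = 0 := by rw [← Matrix.mul_assoc, a2, Matrix.zero_mul]
  have c2 : B.1.toBlocks₂₂ = 0 := by
    calc B.1.toBlocks₂₂ = B.1.toBlocks₂₂ * (Y * B.1.toBlocks₁₂) := by rw [b4, Matrix.mul_one]
      _ = 0 := by rw [← Matrix.mul_assoc, a3, Matrix.zero_mul]
  rw [c1, c2] at e0
  exact ⟨B.1.toBlocks₁₂, B.1.toBlocks₂₁, e0⟩

end form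

section split

variable {F : Type*} [Field F] {k : ℕ}

/-- **splitting off a nonisotropic vector** -/
theorem exists_split (A : GL (Fin (k + 1)) F) (σ : F ≃+* F) {u : Fin (k + 1) → F} (hu : bf A σ u u ≠ 0)
    (hsym : ∀ v w, bf A σ v w = 0 → bf A σ w v = 0) :
    ∃ (w : Fin k → Fin (k + 1) → F)
      (e : Matrix.ProjectiveSpecialLinearGroup (Fin (k + 1)) F ≃* Matrix.ProjectiveSpecialLinearGroup (Fin k ⊕ Unit) F)
      (B : GL (Fin k ⊕ Unit) F) (B1 : GL (Fin k) F) (B2 : Matrix Unit Unit F),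
      (∀ v, bf A σ v u = 0 → ∃ c : Fin k → F, v = ∑ i, c i • w i) ∧ (∀ i, bf A σ (w i) u = 0) ∧
      B.1 = fromBlocks B1.1 0 0 B2 ∧ (∀ i j, B1⁻¹.1 i j = bf A σ (w j) (w i)) ∧
      H459.Rad.tr e (lift (cj A * fld σ * itr)) = lift (cj B * fld σ * itr) := by
  let φ : (Fin (k + 1) → F) →ₗ[F] F :=
    { toFun := fun v => bf A σ v u
      map_add' := fun v w => bf_add_left v w u
      map_smul' := fun c v => bf_smul_left c v u }
  have hφ : ∀ v, φ v = bf A σ v u := fun _ => rfl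
  have hφ0 : φ ≠ 0 := fun h => hu (by rw [← hφ, h]; rfl)
  have hk : Module.finrank F (LinearMap.ker φ) = k := by
    have h1 := Module.Dual.finrank_ker_add_one_of_ne_zero hφ0
    rw [Module.finrank_fin_fun] at h1
    omega
  let b : Module.Basis (Fin k) F (LinearMap.ker φ) := Module.finBasisOfFinrankEq F _ hk
  let bs : Module.Basis (Fin (k + 1)) F (Fin (k + 1) → F) := Module.Basis.mkFinCons u b
    (by
      intro c x hx h
      have h1 := congrArg φ h
      rw [map_add, map_smul, map_zero, LinearMap.mem_ker.1 hx, add_zero, smul_eq_mul, hφ] at h1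
      exact (mul_eq_zero.1 h1).resolve_right hu)
    (by
      intro z
      refine ⟨-(φ z / φ u), ?_⟩
      have hu' : φ u ≠ 0 := hu
      rw [LinearMap.mem_ker, map_add, map_smul, smul_eq_mul, neg_mul, div_mul_cancel₀ _ hu', add_neg_cancel])
  have hbs0 : bs 0 = u := by
    change Module.Basis.mkFinCons u b _ _ 0 = u
    rw [Module.Basis.coe_mkFinCons]
    rfl
  have hbs1 : ∀ i : Fin k, bs i.succ = (b i : Fin (k + 1) → F) := by
    intro i
    change Module.Basis.mkFinCons u b _ _ i.succ = _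
    rw [Module.Basis.coe_mkFinCons]
    rfl
  let bt : Module.Basis (Fin k ⊕ Unit) F (Fin (k + 1) → F) :=
    bs.reindex ((finSuccEquiv k).trans (Equiv.optionEquivSumPUnit _))
  have hbt0 : ∀ j, bt (Sum.inr j) = u := by
    intro j
    rw [Module.Basis.reindex_apply, ← hbs0]
    congr 1
  have hbt1 : ∀ i : Fin k, bt (Sum.inl i) = (b i : Fin (k + 1) → F) := by
    intro i
    rw [Module.Basis.reindex_apply, ← hbs1]
    congr 1
  have hbu : ∀ i, bf A σ (b i : Fin (k + 1) → F) u = 0 := fun i => LinearMap.mem_ker.1 (b i).2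
  obtain ⟨e, B, hB, he⟩ := exists_gram A σ bt
  have hB' : B⁻¹.1 = fromBlocks (of fun i j => bf A σ (b j : Fin (k + 1) → F) (b i : Fin (k + 1) → F)) 0 0
      (of fun _ _ => bf A σ u u) := by
    ext i j
    rw [hB]
    rcases i with i | i <;> rcases j with j | j
    · rw [hbt1, hbt1, fromBlocks_apply₁₁, of_apply]
    · rw [hbt0, hbt1, fromBlocks_apply₁₂, Matrix.zero_apply]
      exact hsym _ _ (hbu i)
    · rw [hbt0, hbt1, fromBlocks_apply₂₁, Matrix.zero_apply]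
      exact hbu j
    · rw [hbt0, fromBlocks_apply₂₂, of_apply]
  obtain ⟨B1, B2, h1, h2⟩ := blocks_of_inv hB'
  refine ⟨fun i => (b i : Fin (k + 1) → F), e, B, B1, B2, fun v hv => ?_, hbu, h1, fun i j => ?_, he⟩
  · have h3 := b.sum_repr ⟨v, LinearMap.mem_ker.2 hv⟩
    refine ⟨fun i => b.repr ⟨v, LinearMap.mem_ker.2 hv⟩ i, ?_⟩
    have h4 := congrArg Subtype.val h3
    rw [AddSubmonoidClass.coe_finsetSum] at h4
    exact h4.symm
  · rw [h2, of_apply]

end split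

end Cfsg.Agent.H618.PslG
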